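import Groth.Agent.HTorKunneth.Elem
import Groth.Prelude.Def_HTor

/-!
# The Künneth map `⊕ H^i(L) ⊗ H^j(M) → H^n(L ⊗ M)`
-/

set_option autoImplicit false
universe u
open CategoryTheory CategoryTheory.Limits MonoidalCategory HomologicalComplex
attribute [local instance] HasDerivedCategory.standard

noncomputable section

namespace Groth.Agent.HTorKunneth

variable {A : Type u} [CommRing A] (L M : DRing.Cx A)

/-- The summand `L^i ⊗ M^j → (L ⊗ M)^n`. -/
def inc (i j n : ℤ) (h : i + j = n) :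
    TensorProduct A (L.X i) (M.X j) →ₗ[A] (HTor.tensorCx L M).X n :=
  (ιTensorObj L M i j n h).hom

theorem inc_eq (i j n : ℤ) (h : i + j = n) (x : TensorProduct A (L.X i) (M.X j)) :
    inc L M i j n h x = ιTensorObj L M i j n h x := rfl

/-- First sign. -/
def s₁ (i j : ℤ) : ℤ :=
  ((ComplexShape.ε₁ (ComplexShape.up ℤ) (ComplexShape.up ℤ) (ComplexShape.up ℤ) (i, j) : ℤˣ) : ℤ)

/-- Second sign. -/
def s₂ (i j : ℤ) : ℤ :=
  ((ComplexShape.ε₂ (ComplexShape.up ℤ) (ComplexShape.up ℤ) (ComplexShape.up ℤ) (i, j) : ℤˣ) : ℤ)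

theorem s₁_mul_self (i j : ℤ) : s₁ i j * s₁ i j = 1 := by
  rw [s₁, ← Units.val_mul, Int.units_mul_self, Units.val_one]

theorem d_inc (i i' j j' n n' : ℤ) (hi : i + 1 = i') (hj : j + 1 = j') (h : i + j = n)
    (h' : n + 1 = n') (x : L.X i) (y : M.X j) :
    (HTor.tensorCx L M).d n n' (inc L M i j n h (x ⊗ₜ y)) =
      s₁ i j • inc L M i' j n' (by omega) (L.d i i' x ⊗ₜ y) +
      s₂ i j • inc L M i j' n' (by omega) (x ⊗ₜ M.d j j' y) := by
  have e : ιMapBifunctor L M (curriedTensor (ModuleCat.{u} A)) (ComplexShape.up ℤ) i j n h ≫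
      (mapBifunctor L M (curriedTensor (ModuleCat.{u} A)) (ComplexShape.up ℤ)).d n n' =
      s₁ i j • (((curriedTensor (ModuleCat.{u} A)).map (L.d i i')).app (M.X j) ≫
        ιMapBifunctor L M (curriedTensor (ModuleCat.{u} A)) (ComplexShape.up ℤ) i' j n'
          (show i' + j = n' by omega)) +
      s₂ i j • (((curriedTensor (ModuleCat.{u} A)).obj (L.X i)).map (M.d j j') ≫
        ιMapBifunctor L M (curriedTensor (ModuleCat.{u} A)) (ComplexShape.up ℤ) i j' n'
          (show i + j' = n' by omega)) := by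
    rw [mapBifunctor.d_eq, Preadditive.comp_add, mapBifunctor.ι_D₁, mapBifunctor.ι_D₂,
      mapBifunctor.d₁_eq L M _ (ComplexShape.up ℤ) (i₁' := i') hi j n'
        (show i' + j = n' by omega),
      mapBifunctor.d₂_eq L M _ (ComplexShape.up ℤ) i (i₂' := j') hj n'
        (show i + j' = n' by omega)]
    simp only [Units.smul_def, s₁, s₂]
  exact ConcreteCategory.congr_hom e (x ⊗ₜ y)

/-- `L ⊗ f`. -/
def TM {M M' : DRing.Cx A} (f : M ⟶ M') : HTor.tensorCx L M ⟶ HTor.tensorCx L M' :=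
  mapBifunctorMap (𝟙 L) f _ _

theorem TM_inc {M M' : DRing.Cx A} (f : M ⟶ M') (i j n : ℤ) (h : i + j = n)
    (x : L.X i) (y : M.X j) :
    (TM L f).f n (inc L M i j n h (x ⊗ₜ y)) = inc L M' i j n h (x ⊗ₜ f.f j y) := by
  have e : ιMapBifunctor L M (curriedTensor (ModuleCat.{u} A)) (ComplexShape.up ℤ) i j n h ≫
      (TM L f).f n = ((curriedTensor (ModuleCat.{u} A)).obj (L.X i)).map (f.f j) ≫
      ιMapBifunctor L M' (curriedTensor (ModuleCat.{u} A)) (ComplexShape.up ℤ) i j n h := by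
    rw [TM, ι_mapBifunctorMap, HomologicalComplex.id_f, CategoryTheory.Functor.map_id,
      NatTrans.id_app, Category.id_comp]
  exact ConcreteCategory.congr_hom e (x ⊗ₜ y)

/-- `z ⊗ z' ↦ z ⊗ z'` into all of `(L ⊗ M)^n`. -/
def cycPair (i j n : ℤ) (h : i + j = n) :
    L.cycles i →ₗ[A] M.cycles j →ₗ[A] (HTor.tensorCx L M).X n :=
  ((TensorProduct.mk A (L.X i) (M.X j)).compl₁₂ (L.iCycles i).hom (M.iCycles j).hom).compr₂
    (inc L M i j n h)

theorem cycPair_apply (i j n : ℤ) (h : i + j = n) (z : L.cycles i) (z' : M.cycles j) :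
    cycPair L M i j n h z z' = inc L M i j n h (L.iCycles i z ⊗ₜ M.iCycles j z') := rfl

theorem d_cycPair (i j n : ℤ) (h : i + j = n) (z : L.cycles i) (z' : M.cycles j) :
    (HTor.tensorCx L M).d n (n + 1) (cycPair L M i j n h z z') = 0 := by
  rw [cycPair_apply, d_inc L M i (i + 1) j (j + 1) n (n + 1) rfl rfl h rfl, d_iC, d_iC,
    TensorProduct.zero_tmul, TensorProduct.tmul_zero, map_zero, map_zero, smul_zero, smul_zero,
    add_zero]

theorem exists_pairCyc (i j n : ℤ) (h : i + j = n) :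
    ∃ B : L.cycles i →ₗ[A] M.cycles j →ₗ[A] (HTor.tensorCx L M).cycles n,
      ∀ z z', (HTor.tensorCx L M).iCycles n (B z z') = cycPair L M i j n h z z' := by
  let T := HTor.tensorCx L M
  have hex : ∀ p : L.cycles i × M.cycles j, ∃ w : T.cycles n,
      T.iCycles n w = cycPair L M i j n h p.1 p.2 :=
    fun p => exists_cycle T n (n + 1) rfl _ (d_cycPair L M i j n h p.1 p.2)
  choose w hw using hex
  have inj := iC_injective T n
  refine ⟨LinearMap.mk₂ A (fun z z' => w (z, z')) ?_ ?_ ?_ ?_, fun z z' => hw (z, z')⟩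
  · intro a b c
    exact inj (by rw [map_add, hw, hw, hw]; exact LinearMap.map_add₂ _ a b c)
  · intro r a b
    exact inj (by rw [map_smul, hw, hw]; exact LinearMap.map_smul₂ _ r a b)
  · intro a b c
    exact inj (by rw [map_add, hw, hw, hw]; exact map_add _ b c)
  · intro r a b
    exact inj (by rw [map_smul, hw, hw]; exact map_smul _ r b)

/-- The cycle `z ⊗ z'`. -/
def pairCyc (i j n : ℤ) (h : i + j = n) :
    L.cycles i →ₗ[A] M.cycles j →ₗ[A] (HTor.tensorCx L M).cycles n :=
  (exists_pairCyc L M i j n h).choose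

theorem iC_pairCyc (i j n : ℤ) (h : i + j = n) (z : L.cycles i) (z' : M.cycles j) :
    (HTor.tensorCx L M).iCycles n (pairCyc L M i j n h z z') = cycPair L M i j n h z z' :=
  (exists_pairCyc L M i j n h).choose_spec z z'

/-- A linear map descends along a surjection whose kernel it kills. -/
theorem exists_desc {X Y Z : Type u} [AddCommGroup X] [AddCommGroup Y] [AddCommGroup Z] [Module A X]
    [Module A Y] [Module A Z] (p : X →ₗ[A] Y) (hp : Function.Surjective p) (f : X →ₗ[A] Z)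
    (hf : ∀ x, p x = 0 → f x = 0) : ∃ g : Y →ₗ[A] Z, ∀ x, g (p x) = f x := by
  refine ⟨(LinearMap.ker p).liftQ f (fun x hx => hf x hx) ∘ₗ
    (p.quotKerEquivOfSurjective hp).symm.toLinearMap, fun x => ?_⟩
  have : (p.quotKerEquivOfSurjective hp).symm (p x) = Submodule.Quotient.mk x :=
    (p.quotKerEquivOfSurjective hp).symm_apply_eq.2 rfl
  rw [LinearMap.comp_apply, LinearEquiv.coe_coe, this, Submodule.liftQ_apply]

theorem π_pairCyc_left (i j n : ℤ) (h : i + j = n) (z : L.cycles i) (hz : L.homologyπ i z = 0)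
    (z' : M.cycles j) : (HTor.tensorCx L M).homologyπ n (pairCyc L M i j n h z z') = 0 := by
  obtain ⟨y, hy⟩ := (π_eq_zero_iff L (i - 1) i (by omega) z).1 hz
  refine (π_eq_zero_iff _ (n - 1) n (by omega) _).2
    ⟨s₁ (i - 1) j • inc L M (i - 1) j (n - 1) (by omega) (y ⊗ₜ M.iCycles j z'), ?_⟩
  rw [iC_pairCyc, cycPair_apply, map_zsmul, d_inc L M (i - 1) i j (j + 1) (n - 1) n (by omega) rfl
    (by omega) (by omega), hy, d_iC, TensorProduct.tmul_zero, map_zero, smul_zero, add_zero,
    smul_smul, s₁_mul_self, one_smul]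

theorem π_pairCyc_right (i j n : ℤ) (h : i + j = n) (z : L.cycles i) (z' : M.cycles j)
    (hz : M.homologyπ j z' = 0) :
    (HTor.tensorCx L M).homologyπ n (pairCyc L M i j n h z z') = 0 := by
  obtain ⟨y, hy⟩ := (π_eq_zero_iff M (j - 1) j (by omega) z').1 hz
  have hu : s₂ i (j - 1) * s₂ i (j - 1) = 1 := by
    rw [s₂, ← Units.val_mul, Int.units_mul_self, Units.val_one]
  refine (π_eq_zero_iff _ (n - 1) n (by omega) _).2
    ⟨s₂ i (j - 1) • inc L M i (j - 1) (n - 1) (by omega) (L.iCycles i z ⊗ₜ y), ?_⟩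
  rw [iC_pairCyc, cycPair_apply, map_zsmul, d_inc L M i (i + 1) (j - 1) j (n - 1) n rfl (by omega)
    (by omega) (by omega), hy, d_iC, TensorProduct.zero_tmul, map_zero, smul_zero, zero_add,
    smul_smul, hu, one_smul]

theorem exists_homPair (i j n : ℤ) (h : i + j = n) :
    ∃ Ψ : L.homology i →ₗ[A] M.homology j →ₗ[A] (HTor.tensorCx L M).homology n,
      ∀ z z', Ψ (L.homologyπ i z) (M.homologyπ j z') =
        (HTor.tensorCx L M).homologyπ n (pairCyc L M i j n h z z') := by
  let B := (pairCyc L M i j n h).compr₂ ((HTor.tensorCx L M).homologyπ n).hom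
  obtain ⟨g, hg⟩ := exists_desc (L.homologyπ i).hom (π_surjective L i) B (fun z hz =>
    LinearMap.ext fun z' => π_pairCyc_left L M i j n h z hz z')
  obtain ⟨g', hg'⟩ := exists_desc (M.homologyπ j).hom (π_surjective M j) g.flip (fun z' hz' => by
    refine LinearMap.ext fun η => ?_
    obtain ⟨z, rfl⟩ := π_surjective L i η
    show g (L.homologyπ i z) z' = 0
    exact (LinearMap.congr_fun (hg z) z').trans (π_pairCyc_right L M i j n h z z' hz'))
  exact ⟨g'.flip, fun z z' => (LinearMap.congr_fun (hg' z') _).trans (LinearMap.congr_fun (hg z) z')⟩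

/-- The Künneth pairing. -/
def homPair (i j n : ℤ) (h : i + j = n) :
    L.homology i →ₗ[A] M.homology j →ₗ[A] (HTor.tensorCx L M).homology n :=
  (exists_homPair L M i j n h).choose

theorem homPair_π (i j n : ℤ) (h : i + j = n) (z : L.cycles i) (z' : M.cycles j) :
    homPair L M i j n h (L.homologyπ i z) (M.homologyπ j z') =
      (HTor.tensorCx L M).homologyπ n (pairCyc L M i j n h z z') :=
  (exists_homPair L M i j n h).choose_spec z z'

/-- The Künneth map. -/
def kun (n : ℤ) : HTor.KunnethSum L M n →ₗ[A] (HTor.tensorCx L M).homology n :=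
  DirectSum.toModule A _ _ fun ij => TensorProduct.lift (homPair L M ij.1.1 ij.1.2 n ij.2)

theorem kun_lof (n : ℤ) (ij : HTor.Antidiag n) (a : L.homology ij.1.1) (b : M.homology ij.1.2) :
    kun L M n (DirectSum.lof A (HTor.Antidiag n) _ ij (a ⊗ₜ b)) =
      homPair L M ij.1.1 ij.1.2 n ij.2 a b := by
  rw [kun, DirectSum.toModule_lof, TensorProduct.lift.tmul]

theorem isKunnethMap_kun (n : ℤ) : HTor.IsKunnethMap L M n (kun L M n) := by
  intro ij z z' w hw
  rw [kun_lof, homPair_π]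
  congr 1
  apply iC_injective
  rw [iC_pairCyc, hw, cycPair_apply, inc_eq]

/-- The map induced on `⊕ H^i(L) ⊗ H^j`. -/
def sumMap {M M' : DRing.Cx A} (f : M ⟶ M') (n : ℤ) :
    HTor.KunnethSum L M n →ₗ[A] HTor.KunnethSum L M' n :=
  DirectSum.lmap fun ij : HTor.Antidiag n =>
    (HomologicalComplex.homologyMap f ij.1.2).hom.lTensor (L.homology ij.1.1)

theorem kun_nat {M M' : DRing.Cx A} (f : M ⟶ M') (n : ℤ) (t : HTor.KunnethSum L M n) :
    HomologicalComplex.homologyMap (TM L f) n (kun L M n t) = kun L M' n (sumMap L f n t) := by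
  have key : (HomologicalComplex.homologyMap (TM L f) n).hom ∘ₗ kun L M n =
      kun L M' n ∘ₗ sumMap L f n := by
    refine DirectSum.linearMap_ext A fun ij => TensorProduct.ext' fun a b => ?_
    show HomologicalComplex.homologyMap (TM L f) n
        (kun L M n (DirectSum.lof A (HTor.Antidiag n) _ ij (a ⊗ₜ b))) =
      kun L M' n (sumMap L f n (DirectSum.lof A (HTor.Antidiag n) _ ij (a ⊗ₜ b)))
    rw [sumMap, DirectSum.lmap_lof, LinearMap.lTensor_tmul, kun_lof, kun_lof]
    obtain ⟨z, rfl⟩ := π_surjective L _ a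
    obtain ⟨z', rfl⟩ := π_surjective M _ b
    rw [homPair_π, homologyMap_π, homologyMap_π, homPair_π]
    congr 1
    apply iC_injective
    rw [iC_cyclesMap, iC_pairCyc, iC_pairCyc, cycPair_apply, cycPair_apply, TM_inc, iC_cyclesMap]
  exact LinearMap.congr_fun key t

end Groth.Agent.HTorKunneth
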