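import Groth.Agent.HTorKunneth.Elem

/-!
# Covers of bounded above complexes by complexes quasi-isomorphic to free complexes with zero differential
-/

set_option autoImplicit false
set_option linter.style.haveILetI false
universe u
open CategoryTheory CategoryTheory.Limits HomologicalComplex

noncomputable section

namespace Groth.Agent.HTorKunneth

variable {A : Type u} [CommRing A] (M : DRing.Cx A) (b : ℤ)

/-- Indices of the cycles. -/
abbrev IZ (j : ℤ) : Type u := {_z : M.cycles j // j ≤ b}

/-- Indices of the discs. -/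
abbrev Dx : Type u := Σ k : ℤ, {_x : M.X k // k < b}

/-- Discs starting in degree `j`. -/
abbrev JB (j : ℤ) : Type u := {q : Dx M b // q.1 = j}

/-- Discs ending in degree `j`. -/
abbrev JC (j : ℤ) : Type u := {q : Dx M b // q.1 + 1 = j}

/-- The terms of the cover. -/
abbrev PT (j : ℤ) : Type u := (IZ M b j →₀ A) × ((JB M b j →₀ A) × (JC M b j →₀ A))

/-- The end of a disc. -/
def nxt {i j : ℤ} (h : i + 1 = j) (q : JB M b i) : JC M b j := ⟨q.1, by have := q.2; omega⟩

theorem nxt_injective {i j : ℤ} (h : i + 1 = j) : Function.Injective (nxt M b h) := fun p q e =>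
  Subtype.ext (congrArg (fun r => r.1) e :)

/-- The start of a disc. -/
def prv {i j : ℤ} (h : i + 1 = j) (q : JC M b j) : JB M b i := ⟨q.1, by have := q.2; omega⟩

theorem nxt_prv {i j : ℤ} (h : i + 1 = j) (q : JC M b j) : nxt M b h (prv M b h q) = q := rfl

/-- The differential of the cover. -/
def dP (i j : ℤ) : PT M b i →ₗ[A] PT M b j :=
  if h : i + 1 = j then
    LinearMap.inr A _ _ ∘ₗ LinearMap.inr A _ _ ∘ₗ Finsupp.lmapDomain A A (nxt M b h) ∘ₗ
      LinearMap.fst A _ _ ∘ₗ LinearMap.snd A _ _
  else 0

theorem dP_apply {i j : ℤ} (h : i + 1 = j) (x : PT M b i) :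
    dP M b i j x = (0, (0, Finsupp.mapDomain (nxt M b h) x.2.1)) := by
  rw [dP, dif_pos h]
  rfl

/-- The covering complex. -/
def coverP : DRing.Cx A where
  X j := ModuleCat.of A (PT M b j)
  d i j := ModuleCat.ofHom (dP M b i j)
  shape i j h := by
    have h' : ¬ i + 1 = j := h
    rw [dP, dif_neg h']
    rfl
  d_comp_d' i j k hij hjk := ModuleCat.hom_ext <| LinearMap.ext fun x => by
    show dP M b j k (dP M b i j x) = 0
    rw [dP_apply M b hjk, dP_apply M b hij]
    simp

/-- The free complex on the cycles. -/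
def coverE : DRing.Cx A where
  X j := ModuleCat.of A (IZ M b j →₀ A)
  d _ _ := 0

/-- The inclusion of the free complex on the cycles. -/
def coverS : coverE M b ⟶ coverP M b where
  f j := ModuleCat.ofHom (LinearMap.inl A _ _)
  comm' i j h := ModuleCat.hom_ext <| LinearMap.ext fun x => by
    show dP M b i j (x, 0) = (0, 0)
    rw [dP_apply M b h]
    exact Prod.ext rfl (Prod.ext rfl (Finsupp.mapDomain_zero (f := nxt M b h)))

/-- Value at the start of a disc. -/
def valB {j : ℤ} (q : JB M b j) : M.X j := (M.XIsoOfEq q.2).hom q.1.2.1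

/-- Value at the end of a disc. -/
def valC {j : ℤ} (q : JC M b j) : M.X j := M.d q.1.1 j q.1.2.1

theorem d_valB {i j : ℤ} (h : i + 1 = j) (q : JB M b i) :
    M.d i j (valB M b q) = valC M b (nxt M b h q) := by
  obtain ⟨⟨k, x⟩, hk⟩ := q
  change k = i at hk
  subst hk
  rfl

theorem d_valC (i j : ℤ) (q : JC M b i) : M.d i j (valC M b q) = 0 :=
  ConcreteCategory.congr_hom (M.d_comp_d q.1.1 i j) q.1.2.1

/-- The covering map in degree `j`. -/
def πT (j : ℤ) : PT M b j →ₗ[A] M.X j :=
  (Finsupp.linearCombination A fun z : IZ M b j => (M.iCycles j z.1 : M.X j)).coprod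
    ((Finsupp.linearCombination A (valB M b (j := j))).coprod
      (Finsupp.linearCombination A (valC M b (j := j))))

theorem πT_apply (j : ℤ) (x : PT M b j) : πT M b j x =
    Finsupp.linearCombination A (fun z : IZ M b j => (M.iCycles j z.1 : M.X j)) x.1 +
      (Finsupp.linearCombination A (valB M b (j := j)) x.2.1 +
        Finsupp.linearCombination A (valC M b (j := j)) x.2.2) := rfl

theorem lc_eq_zero {ι : Type u} {N : Type u} [AddCommGroup N] [Module A N] (v : ι → N) (hv : ∀ i, v i = 0)
    (c : ι →₀ A) : Finsupp.linearCombination A v c = 0 := by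
  rw [Finsupp.linearCombination_apply]
  simp [hv]

/-- The covering map. -/
def coverπ : coverP M b ⟶ M where
  f j := ModuleCat.ofHom (πT M b j)
  comm' i j h := ModuleCat.hom_ext <| LinearMap.ext fun x => by
    show M.d i j (πT M b i x) = πT M b j (dP M b i j x)
    rw [dP_apply M b h, πT_apply, πT_apply, map_add, map_add, map_zero, zero_add, map_zero, zero_add]
    have h1 : M.d i j (Finsupp.linearCombination A
        (fun z : IZ M b i => (M.iCycles i z.1 : M.X i)) x.1) = 0 := by
      show (M.d i j).hom _ = 0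
      rw [Finsupp.apply_linearCombination]
      exact lc_eq_zero _ (fun z : IZ M b i => d_iC M i j z.1) _
    have h2 : M.d i j (Finsupp.linearCombination A (valC M b (j := i)) x.2.2) = 0 := by
      show (M.d i j).hom _ = 0
      rw [Finsupp.apply_linearCombination]
      exact lc_eq_zero _ (fun z : JC M b i => d_valC M b i j z) _
    rw [h1, h2, zero_add, add_zero, Finsupp.linearCombination_mapDomain]
    show (M.d i j).hom _ = _
    rw [Finsupp.apply_linearCombination]
    exact congrArg (fun v => Finsupp.linearCombination A v x.2.1)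
      (funext fun q => d_valB M b h q)

theorem coverE_d (i j : ℤ) : (coverE M b).d i j = 0 := rfl

theorem coverE_flat : DRing.TermwiseFlat (coverE M b) := fun j =>
  show Module.Flat A (IZ M b j →₀ A) from inferInstance

variable {b}

theorem vanishesAbove_coverP : DRing.VanishesAbove (coverP M b) b := by
  intro j hj
  haveI : IsEmpty (IZ M b j) := ⟨fun z => by have := z.2; omega⟩
  haveI : IsEmpty (JB M b j) := ⟨fun q => by have := q.2; have := q.1.2.2; omega⟩
  haveI : IsEmpty (JC M b j) := ⟨fun q => by have := q.2; have := q.1.2.2; omega⟩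
  haveI : Subsingleton (ModuleCat.of A (PT M b j)) :=
    inferInstanceAs (Subsingleton (PT M b j))
  exact ModuleCat.isZero_of_subsingleton (ModuleCat.of A (PT M b j))

theorem quasiIso_coverS : QuasiIso (coverS M b) := by
  refine ⟨fun j => (quasiIsoAt_iff_isIso_homologyMap _ _).2
    ((ConcreteCategory.isIso_iff_bijective _).2 ⟨?_, ?_⟩)⟩
  · refine (injective_iff_map_eq_zero _).2 fun η hη => ?_
    obtain ⟨z, rfl⟩ := π_surjective _ j η
    rw [homologyMap_π] at hη
    obtain ⟨y, hy⟩ := (π_eq_zero_iff _ (j - 1) j (by omega) _).1 hη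
    rw [iC_cyclesMap] at hy
    have h1 : dP M b (j - 1) j y = ((coverE M b).iCycles j z, 0) := hy
    rw [dP_apply M b (by omega)] at h1
    have hz : (coverE M b).iCycles j z = 0 := (congrArg Prod.fst h1).symm
    rw [iC_injective _ j (hz.trans (map_zero _).symm), map_zero]
  · intro η
    obtain ⟨z, rfl⟩ := π_surjective _ j η
    set w : PT M b j := (coverP M b).iCycles j z with hw
    have hd : dP M b j (j + 1) w = 0 := d_iC _ j (j + 1) z
    rw [dP_apply M b rfl] at hd
    have hb : w.2.1 = 0 := Finsupp.mapDomain_injective (nxt_injective M b rfl)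
      ((congrArg (fun v => v.2.2) hd :).trans Finsupp.mapDomain_zero.symm)
    obtain ⟨e, he⟩ := exists_cycle (coverE M b) j (j + 1) rfl w.1 rfl
    refine ⟨(coverE M b).homologyπ j e, ?_⟩
    rw [homologyMap_π, eq_comm, ← sub_eq_zero, ← map_sub]
    refine (π_eq_zero_iff _ (j - 1) j (by omega) _).2
      ⟨((0, (Finsupp.mapDomain (prv M b (show j - 1 + 1 = j by omega)) w.2.2, 0)) :
        PT M b (j - 1)), ?_⟩
    rw [map_sub, iC_cyclesMap, he]
    show dP M b (j - 1) j _ = w - (w.1, 0)
    rw [dP_apply M b (by omega)]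
    refine Prod.ext ?_ (Prod.ext ?_ ?_)
    · exact (sub_self w.1).symm
    · show (0 : JB M b j →₀ A) = w.2.1 - 0
      rw [hb, sub_zero]
    · show Finsupp.mapDomain _ (Finsupp.mapDomain _ w.2.2) = w.2.2 - 0
      rw [← Finsupp.mapDomain_comp, sub_zero]
      exact Finsupp.mapDomain_id

variable (hb : DRing.VanishesAbove M b)

include hb in
theorem coverπ_surjective (j : ℤ) : Function.Surjective ((coverπ M b).f j) := by
  intro x
  show ∃ a, πT M b j a = x
  rcases lt_trichotomy j b with h | h | h
  · exact ⟨(0, (Finsupp.single ⟨⟨j, ⟨x, h⟩⟩, rfl⟩ 1, 0)), by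
      rw [πT_apply, map_zero, map_zero, Finsupp.linearCombination_single, one_smul, zero_add, add_zero]
      rfl⟩
  · haveI := ModuleCat.subsingleton_of_isZero (hb (j + 1) (by omega))
    obtain ⟨z, hz⟩ := exists_cycle M j (j + 1) rfl x (Subsingleton.elim _ _)
    exact ⟨(Finsupp.single ⟨z, h.le⟩ 1, 0), by
      rw [πT_apply, Finsupp.linearCombination_single, one_smul]
      simp [hz]⟩
  · haveI := ModuleCat.subsingleton_of_isZero (hb j h)
    exact ⟨0, Subsingleton.elim _ _⟩

include hb in
theorem homologyMap_coverπ_surjective (j : ℤ) :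
    Function.Surjective (homologyMap (coverπ M b) j) := by
  intro η
  obtain ⟨z, rfl⟩ := π_surjective M j η
  by_cases h : j ≤ b
  · obtain ⟨w, hw⟩ := exists_cycle (coverP M b) j (j + 1) rfl
      ((Finsupp.single ⟨z, h⟩ 1, 0) : PT M b j) (by
        show dP M b j (j + 1) _ = 0
        rw [dP_apply M b rfl]
        simp)
    refine ⟨(coverP M b).homologyπ j w, ?_⟩
    rw [homologyMap_π]
    congr 1
    apply iC_injective
    rw [iC_cyclesMap, hw]
    show πT M b j (Finsupp.single ⟨z, h⟩ 1, 0) = _
    rw [πT_apply, Finsupp.linearCombination_single, one_smul]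
    simp
  · haveI := ModuleCat.subsingleton_of_isZero (hb j (by omega))
    exact ⟨0, by rw [map_zero, iC_injective M j (Subsingleton.elim (M.iCycles j z) (M.iCycles j 0)),
      map_zero]⟩

end Groth.Agent.HTorKunneth
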