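import Groth.Agent.HTorKunneth.Filt

/-!
# Degeneration of the Künneth filtration
-/

set_option autoImplicit false
set_option linter.style.haveILetI false
universe u
open CategoryTheory CategoryTheory.Limits HomologicalComplex
attribute [local instance] HasDerivedCategory.standard

noncomputable section

namespace Groth.Agent.HTorKunneth

variable {A : Type u} [CommRing A] (L : DRing.Cx A) (hL : DRing.TermwiseFlat L)
  (bL : ∃ c, DRing.VanishesAbove L c) (b : ℤ) (M : DRing.Cx A) (hM : DRing.VanishesAbove M b) (n : ℤ)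

include hL bL hM in
/-- If the higher `Tor` terms vanish, the Künneth map is surjective. -/
theorem kun_surjective_of_torSum (h : ∀ p : ℕ, Subsingleton (HTor.TorSum L M n (p + 1))) :
    Function.Surjective (kun L M n) := by
  obtain ⟨c, hc⟩ := bL
  have hstep : ∀ p, filt L hL b (p + 1) M hM n ≤ filt L hL b p M hM n := fun p x hx => by
    obtain ⟨S, g, hg⟩ := sub_grSucc L hL ⟨c, hc⟩ b p M hM n
    haveI := h p
    obtain ⟨s, hs⟩ := hg (Submodule.Quotient.mk
      (p := (filt L hL b p M hM n).comap (filt L hL b (p + 1) M hM n).subtype) ⟨x, hx⟩)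
    rw [Subsingleton.elim s 0, map_zero] at hs
    exact ((Submodule.Quotient.mk_eq_zero _).1 hs.symm :)
  have hle : ∀ p, filt L hL b p M hM n ≤ filt L hL b 0 M hM n := fun p => by
    induction p with
    | zero => exact le_rfl
    | succ p ih => exact (hstep p).trans ih
  refine LinearMap.range_eq_top.1 (eq_top_iff.2 ?_)
  calc (⊤ : Submodule A _) = filt L hL b ((c + b - n).toNat + 1) M hM n :=
        (filt_eq_top L hL b hc _ M hM n (by omega)).symm
    _ ≤ _ := hle _

theorem subsingleton_torSum_of_flat (hH : ∀ i : ℤ, Module.Flat A (L.homology i)) (p : ℕ) :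
    Subsingleton (HTor.TorSum L M n (p + 1)) := by
  haveI : ∀ ij : {ij : ℤ × ℤ // ij.1 + ij.2 - ((p + 1 : ℕ) : ℤ) = n},
      Subsingleton (DRing.Tor A (p + 1) (L.homology ij.1.1) (M.homology ij.1.2)) := fun ij =>
    haveI := hH ij.1.1
    TorLib.subsingleton_tor_of_flat _ _ p
  exact ⟨fun x y => DFinsupp.ext fun i => Subsingleton.elim _ _⟩

include hL bL hM in
/-- The Künneth map is bijective when the cohomology of `L` is flat. -/
theorem kun_bijective_of_flat (hH : ∀ i : ℤ, Module.Flat A (L.homology i)) :
    Function.Bijective (kun L M n) := by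
  refine ⟨(injective_iff_map_eq_zero _).2 fun t ht => ?_,
    kun_surjective_of_torSum L hL bL b M hM n fun p => subsingleton_torSum_of_flat L M n hH p⟩
  obtain ⟨t', rfl⟩ := (DirectSum.lmap_surjective (R := A)
    (fun ij : HTor.Antidiag n =>
      (homologyMap (coverπ M b) ij.1.2).hom.lTensor (L.homology ij.1.1))).2
    (fun ij => LinearMap.lTensor_surjective _ (homologyMap_coverπ_surjective M hM ij.1.2)) t
  obtain ⟨w, hw⟩ := (exact_K_P L M hM hL n (kun L (coverP M b) n t')).1
    ((kun_nat L (coverπ M b) n t').trans ht)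
  obtain ⟨s, rfl⟩ := kun_surjective_of_torSum L hL bL b (kerCov M b) (vanishesAbove_kerCov M hM) n
    (fun p => subsingleton_torSum_of_flat L _ n hH p) w
  rw [kun_nat] at hw
  have hs : sumMap L (kerι M b) n s = t' := (kun_coverP_bijective L M hL bL n).1 hw
  subst hs
  refine DFinsupp.ext fun ij => ?_
  rw [sumMap, DirectSum.lmap_apply, DirectSum.lmap_apply, ← LinearMap.lTensor_comp_apply,
    (homology_exact M hM ij.1.2).2.linearMap_comp_eq_zero, LinearMap.lTensor_zero]
  rfl

end Groth.Agent.HTorKunneth
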