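import Groth.Prelude.Def_DRing2
import Mathlib

/-!
# Elementwise cycles and homology classes for cochain complexes of modules
-/

set_option autoImplicit false
universe u
open CategoryTheory CategoryTheory.Limits

namespace Groth.Agent.HTorKunneth

variable {A : Type u} [CommRing A] (C : DRing.Cx A)

theorem iC_injective (i : ℤ) : Function.Injective (C.iCycles i) :=
  (ModuleCat.mono_iff_injective _).1 inferInstance

theorem π_surjective (i : ℤ) : Function.Surjective (C.homologyπ i) :=
  (ModuleCat.epi_iff_surjective _).1 inferInstance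

theorem d_iC (i j : ℤ) (z : C.cycles i) : C.d i j (C.iCycles i z) = 0 :=
  ConcreteCategory.congr_hom (C.iCycles_d i j) z

theorem exact_iC (i j : ℤ) (h : i + 1 = j) : Function.Exact (C.iCycles i) (C.d i j) :=
  (ShortComplex.ShortExact.moduleCat_exact_iff_function_exact _).1 (ShortComplex.exact_of_f_is_kernel
    (ShortComplex.mk (C.iCycles i) (C.d i j) (C.iCycles_d _ _))
    (C.cyclesIsKernel i j ((ComplexShape.up ℤ).next_eq' h)))

theorem exists_cycle (i j : ℤ) (h : i + 1 = j) (x : C.X i) (hx : C.d i j x = 0) :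
    ∃ z : C.cycles i, C.iCycles i z = x :=
  (exact_iC C i j h x).1 hx

theorem exact_toCycles (i j : ℤ) (h : i + 1 = j) :
    Function.Exact (C.toCycles i j) (C.homologyπ j) :=
  (ShortComplex.ShortExact.moduleCat_exact_iff_function_exact _).1 (ShortComplex.exact_of_g_is_cokernel
    (ShortComplex.mk (C.toCycles i j) (C.homologyπ j) (C.toCycles_comp_homologyπ _ _))
    (C.homologyIsCokernel i j ((ComplexShape.up ℤ).prev_eq' h)))

theorem iC_toCycles (i j : ℤ) (x : C.X i) : C.iCycles j (C.toCycles i j x) = C.d i j x :=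
  ConcreteCategory.congr_hom (C.toCycles_i i j) x

theorem π_eq_zero_iff (i j : ℤ) (h : i + 1 = j) (z : C.cycles j) :
    C.homologyπ j z = 0 ↔ ∃ y, C.d i j y = C.iCycles j z := by
  constructor
  · intro hz
    obtain ⟨y, hy⟩ := (exact_toCycles C i j h z).1 hz
    exact ⟨y, by rw [← hy, iC_toCycles]⟩
  · rintro ⟨y, hy⟩
    exact (exact_toCycles C i j h z).2 ⟨y, iC_injective C j (by rw [iC_toCycles, hy])⟩

theorem π_toCycles (i j : ℤ) (y : C.X i) : C.homologyπ j (C.toCycles i j y) = 0 :=
  ConcreteCategory.congr_hom (C.toCycles_comp_homologyπ i j) y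

variable {C} {D : DRing.Cx A} (f : C ⟶ D)

theorem iC_cyclesMap (i : ℤ) (z : C.cycles i) :
    D.iCycles i (HomologicalComplex.cyclesMap f i z) = f.f i (C.iCycles i z) :=
  ConcreteCategory.congr_hom (HomologicalComplex.cyclesMap_i f i) z

theorem homologyMap_π (i : ℤ) (z : C.cycles i) :
    HomologicalComplex.homologyMap f i (C.homologyπ i z) =
      D.homologyπ i (HomologicalComplex.cyclesMap f i z) :=
  ConcreteCategory.congr_hom (HomologicalComplex.homologyπ_naturality f i) z

end Groth.Agent.HTorKunneth
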