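import Groth.Prelude.Def_HTor
import Mathlib

/-!
# Subquotients of modules
-/

set_option autoImplicit false
universe u

namespace Groth.Agent.HTorKunneth

variable {A : Type u} [CommRing A] {N N' T T' H : Type u} [AddCommGroup N] [Module A N]
  [AddCommGroup N'] [Module A N'] [AddCommGroup T] [Module A T] [AddCommGroup T'] [Module A T']
  [AddCommGroup H] [Module A H]

variable (A N T) in
/-- `N` is a quotient of a submodule of `T`. -/
def Sub : Prop := ∃ (S : Submodule A T) (g : S →ₗ[A] N), Function.Surjective g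

theorem Sub.isSubquotient (h : Sub A N T) : HTor.IsSubquotient A N T := by
  obtain ⟨S, g, hg⟩ := h
  refine ⟨(LinearMap.ker g).map S.subtype, S, Submodule.map_subtype_le _ _, ⟨?_⟩⟩
  exact (g.quotKerEquivOfSurjective hg).symm.trans (Submodule.quotEquivOfEq _ _
    (Submodule.comap_map_eq_of_injective S.injective_subtype _).symm)

theorem Sub.of_surjective (h : Sub A N T) (θ : T' →ₗ[A] T) (hθ : Function.Surjective θ) :
    Sub A N T' := by
  obtain ⟨S, g, hg⟩ := h
  refine ⟨S.comap θ, g ∘ₗ θ.restrict (fun x (hx : x ∈ S.comap θ) => hx), fun y => ?_⟩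
  obtain ⟨⟨s, hs⟩, rfl⟩ := hg y
  obtain ⟨t, rfl⟩ := hθ s
  exact ⟨⟨t, hs⟩, rfl⟩

theorem Sub.of_injective (h : Sub A N T) (e : N' →ₗ[A] N) (he : Function.Injective e) :
    Sub A N' T := by
  obtain ⟨S, g, hg⟩ := h
  let S₁ : Submodule A S := (LinearMap.range e).comap g
  let q : S₁ →ₗ[A] N' := (LinearEquiv.ofInjective e he).symm.toLinearMap ∘ₗ
    g.restrict (fun x (hx : x ∈ S₁) => hx)
  refine ⟨S₁.map S.subtype, q ∘ₗ (Submodule.equivMapOfInjective _ S.injective_subtype S₁).symm.toLinearMap,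
    fun y => ?_⟩
  obtain ⟨s, hs⟩ := hg (e y)
  refine ⟨Submodule.equivMapOfInjective _ S.injective_subtype S₁ ⟨s, y, hs.symm⟩, ?_⟩
  simp only [LinearMap.comp_apply, LinearEquiv.coe_coe, LinearEquiv.symm_apply_apply, q]
  rw [LinearEquiv.symm_apply_eq]
  exact Subtype.ext hs

theorem Sub.of_range_le (g : T →ₗ[A] H) (e : N →ₗ[A] H) (he : Function.Injective e)
    (hr : LinearMap.range e ≤ LinearMap.range g) : Sub A N T := by
  have h : Sub A (LinearMap.range g) T :=
    ⟨⊤, g.rangeRestrict ∘ₗ Submodule.topEquiv.toLinearMap,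
      g.surjective_rangeRestrict.comp Submodule.topEquiv.surjective⟩
  exact h.of_injective (e.codRestrict _ fun x => hr ⟨x, rfl⟩) fun a b hab => he (congrArg Subtype.val hab)

end Groth.Agent.HTorKunneth
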