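import Groth.Agent.HTorKunneth.Seq
import Groth.Agent.HTorKunneth.Sub
import Groth.Agent.TorLib.Balance

/-!
# The Künneth filtration
-/

set_option autoImplicit false
set_option linter.style.haveILetI false
universe u
open CategoryTheory CategoryTheory.Limits MonoidalCategory HomologicalComplex
attribute [local instance] HasDerivedCategory.standard

noncomputable section

namespace Groth.Agent.HTorKunneth

variable {A : Type u} [CommRing A]

/-- Balancing, on types. -/
def torComm (n : ℕ) (X Y : Type u) [AddCommGroup X] [Module A X] [AddCommGroup Y] [Module A Y] :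
    DRing.Tor A n X Y ≃ₗ[A] DRing.Tor A n Y X :=
  (((TorLib.torBalance A n).app (ModuleCat.of A X)).app (ModuleCat.of A Y)).toLinearEquiv

section shift

variable {K F M : Type u} [AddCommGroup K] [Module A K] [AddCommGroup F] [Module A F]
  [AddCommGroup M] [Module A M] [Module.Flat A F] (f : K →ₗ[A] F) (g : F →ₗ[A] M)
  (hf : Function.Injective f) (hg : Function.Surjective g) (hfg : Function.Exact f g)

include hf hg hfg in
/-- `Tor_1(X, M) → X ⊗ K` with range the kernel of `X ⊗ K → X ⊗ F`. -/
theorem exists_torOne (X : Type u) [AddCommGroup X] [Module A X] :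
    ∃ θ : DRing.Tor A 1 X M →ₗ[A] TensorProduct A X K,
      LinearMap.range θ = LinearMap.ker (f.lTensor X) := by
  let e : DRing.Tor A 1 X M ≃ₗ[A] LinearMap.ker (f.rTensor X) :=
    (torComm 1 X M).trans (TorLib.torOneEquivKer f g X hf hg hfg)
  refine ⟨(TensorProduct.comm A K X).toLinearMap ∘ₗ (LinearMap.ker (f.rTensor X)).subtype ∘ₗ
    e.toLinearMap, ?_⟩
  have hc : ∀ t, f.lTensor X (TensorProduct.comm A K X t) =
      TensorProduct.comm A F X (f.rTensor X t) := by
    intro t
    induction t using TensorProduct.induction_on with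
    | zero => simp
    | tmul a b => rfl
    | add a b ha hb => simp [ha, hb]
  ext y
  constructor
  · rintro ⟨t, rfl⟩
    show f.lTensor X (TensorProduct.comm A K X _) = 0
    rw [hc]
    exact (congrArg _ (e t).2).trans (map_zero _)
  · intro hy
    obtain ⟨t, rfl⟩ := (TensorProduct.comm A K X).surjective y
    have ht : f.rTensor X t = 0 := (TensorProduct.comm A F X).injective
      (((hc t).symm.trans hy).trans (map_zero _).symm)
    exact ⟨e.symm ⟨t, ht⟩, by simp⟩

include hf hg hfg in
/-- `Tor_{p+1}(X, K) ≅ Tor_{p+2}(X, M)`. -/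
def torShiftRight (X : Type u) [AddCommGroup X] [Module A X] (p : ℕ) :
    DRing.Tor A (p + 2) X M ≃ₗ[A] DRing.Tor A (p + 1) X K :=
  (torComm (p + 2) X M).trans ((TorLib.torSuccEquiv f g X hf hg hfg p).trans (torComm (p + 1) K X))

end shift

variable (L : DRing.Cx A) (hL : DRing.TermwiseFlat L) (bL : ∃ c, DRing.VanishesAbove L c) (b : ℤ)

/-- The filtration. -/
def filt : ∀ (_ : ℕ) (M : DRing.Cx A) (_ : DRing.VanishesAbove M b) (n : ℤ),
    Submodule A ((HTor.tensorCx L M).homology n)
  | 0, M, _, n => LinearMap.range (kun L M n)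
  | p + 1, M, hM, n => (filt p (kerCov M b) (vanishesAbove_kerCov M hM) (n + 1)).comap (δ L M hM hL n)

include bL in
theorem filt_zero_eq_ker (M : DRing.Cx A) (hM : DRing.VanishesAbove M b) (n : ℤ) :
    filt L hL b 0 M hM n = LinearMap.ker (δ L M hM hL n) := by
  ext x
  constructor
  · rintro ⟨t, rfl⟩
    obtain ⟨t', rfl⟩ := (DirectSum.lmap_surjective (R := A)
      (fun ij : HTor.Antidiag n =>
        (homologyMap (coverπ M b) ij.1.2).hom.lTensor (L.homology ij.1.1))).2
      (fun ij => LinearMap.lTensor_surjective _ (homologyMap_coverπ_surjective M hM ij.1.2)) t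
    exact (exact_P_M L M hM hL n _).2 ⟨kun L (coverP M b) n t', kun_nat L (coverπ M b) n t'⟩
  · intro hx
    obtain ⟨y, rfl⟩ := (exact_P_M L M hM hL n x).1 hx
    obtain ⟨t, rfl⟩ := (kun_coverP_bijective L M hL bL n).2 y
    exact ⟨sumMap L (coverπ M b) n t, (kun_nat L (coverπ M b) n t).symm⟩

include bL in
theorem filt_le_succ : ∀ (p : ℕ) (M : DRing.Cx A) (hM : DRing.VanishesAbove M b) (n : ℤ),
    filt L hL b p M hM n ≤ filt L hL b (p + 1) M hM n
  | 0, M, hM, n => by
      rw [filt_zero_eq_ker L hL bL b M hM n]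
      exact LinearMap.ker_le_comap _
  | p + 1, M, hM, n => Submodule.comap_mono
      (filt_le_succ p (kerCov M b) (vanishesAbove_kerCov M hM) (n + 1))

theorem filt_eq_top {c : ℤ} (hc : DRing.VanishesAbove L c) :
    ∀ (p : ℕ) (M : DRing.Cx A) (hM : DRing.VanishesAbove M b) (n : ℤ),
    c + b < n + p → filt L hL b p M hM n = ⊤
  | 0, M, hM, n, h => by
      have hz : IsZero ((HTor.tensorCx L M).X n) :=
        (IsZero.iff_id_eq_zero _).2 (mapBifunctor.hom_ext fun i j (hij : i + j = n) => by
          refine IsZero.eq_of_src ?_ _ _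
          rcases lt_or_ge c i with hi | hi
          · haveI := ModuleCat.subsingleton_of_isZero (hc i hi)
            exact ModuleCat.isZero_of_subsingleton (ModuleCat.of A (TensorProduct A (L.X i) (M.X j)))
          · haveI := ModuleCat.subsingleton_of_isZero (hM j (by omega))
            exact ModuleCat.isZero_of_subsingleton (ModuleCat.of A (TensorProduct A (L.X i) (M.X j))))
      haveI := ModuleCat.subsingleton_of_isZero (((HTor.tensorCx L M).exactAt_iff_isZero_homology n).1
        ((HTor.tensorCx L M).sc n |>.exact_of_isZero_X₂ hz))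
      exact eq_top_iff.2 fun x _ => by rw [Subsingleton.elim x 0]; exact zero_mem _
  | p + 1, M, hM, n, h => by
      rw [filt, filt_eq_top hc p (kerCov M b) (vanishesAbove_kerCov M hM) (n + 1) (by omega),
        Submodule.comap_top]

include bL in
theorem sub_grSucc : ∀ (p : ℕ) (M : DRing.Cx A) (hM : DRing.VanishesAbove M b) (n : ℤ),
    Sub A (HTor.grSucc (fun q => filt L hL b q M hM n) p) (HTor.TorSum L M n (p + 1))
  | 0, M, hM, n => by
      let hK := vanishesAbove_kerCov M hM
      have ex : ∀ ij : {ij : ℤ × ℤ // ij.1 + ij.2 - ((0 + 1 : ℕ) : ℤ) = n},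
          ∃ θ : DRing.Tor A (0 + 1) (L.homology ij.1.1) (M.homology ij.1.2) →ₗ[A]
            TensorProduct A (L.homology ij.1.1) ((kerCov M b).homology ij.1.2),
            LinearMap.range θ = LinearMap.ker
              ((homologyMap (kerι M b) ij.1.2).hom.lTensor (L.homology ij.1.1)) := fun ij =>
        haveI := flat_homology_coverP (b := b) M ij.1.2
        exists_torOne (homologyMap (kerι M b) ij.1.2).hom (homologyMap (coverπ M b) ij.1.2).hom
          (homology_exact M hM ij.1.2).1 (homologyMap_coverπ_surjective M hM ij.1.2)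
          (homology_exact M hM ij.1.2).2 _
      choose θ hθ using ex
      let Θ : HTor.TorSum L M n (0 + 1) →ₗ[A] HTor.KunnethSum L (kerCov M b) (n + 1) :=
        DirectSum.toModule A _ _ fun ij =>
          DirectSum.lof A (HTor.Antidiag (n + 1))
            (fun ij => TensorProduct A (L.homology ij.1.1) ((kerCov M b).homology ij.1.2))
            ⟨ij.1, by have := ij.2; omega⟩ ∘ₗ θ ij
      let G := filt L hL b (0 + 1) M hM n
      let G₀ : Submodule A G := (filt L hL b 0 M hM n).comap G.subtype
      have hle : G₀ ≤ LinearMap.ker ((δ L M hM hL n).comp G.subtype) := fun x hx => by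
        have : (x : (HTor.tensorCx L M).homology n) ∈ filt L hL b 0 M hM n := hx
        rw [filt_zero_eq_ker L hL bL b M hM n] at this
        exact this
      let e := G₀.liftQ ((δ L M hM hL n).comp G.subtype) hle
      refine Sub.of_range_le (H := (HTor.tensorCx L (kerCov M b)).homology (n + 1))
        (kun L (kerCov M b) (n + 1) ∘ₗ Θ) e ?_ ?_
      · refine (injective_iff_map_eq_zero _).2 fun x hx => ?_
        obtain ⟨y, rfl⟩ := Submodule.Quotient.mk_surjective _ x
        refine (Submodule.Quotient.mk_eq_zero _).2 ?_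
        show (y : (HTor.tensorCx L M).homology n) ∈ filt L hL b 0 M hM n
        rw [filt_zero_eq_ker L hL bL b M hM n]
        exact hx
      · rintro _ ⟨x, rfl⟩
        obtain ⟨⟨y, hy⟩, rfl⟩ := Submodule.Quotient.mk_surjective _ x
        obtain ⟨t, ht⟩ : ∃ t, kun L (kerCov M b) (n + 1) t = δ L M hM hL n y := hy
        show δ L M hM hL n y ∈ _
        have h0 : sumMap L (kerι M b) (n + 1) t = 0 := by
          apply (kun_coverP_bijective L M hL bL (n + 1)).1
          rw [map_zero, ← kun_nat, ht]
          exact (exact_M_K L M hM hL n _).2 ⟨y, rfl⟩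
        have htr : t ∈ LinearMap.range Θ := by
          classical
          rw [← DirectSum.sum_support_of t]
          refine Submodule.sum_mem _ fun k _ => ?_
          have hk : (homologyMap (kerι M b) k.1.2).hom.lTensor (L.homology k.1.1) (t k) = 0 := by
            have := DFinsupp.ext_iff.1 h0 k
            rwa [sumMap, DirectSum.lmap_apply] at this
          obtain ⟨s, hs⟩ := (hθ ⟨k.1, by have := k.2; omega⟩).symm.le (LinearMap.mem_ker.2 hk)
          refine ⟨DirectSum.lof A {ij : ℤ × ℤ // ij.1 + ij.2 - ((0 + 1 : ℕ) : ℤ) = n}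
            (fun ij => DRing.Tor A (0 + 1) (L.homology ij.1.1) (M.homology ij.1.2))
            ⟨k.1, by have := k.2; omega⟩ s, ?_⟩
          simp only [Θ, DirectSum.toModule_lof, LinearMap.comp_apply]
          rw [hs]
          exact DirectSum.lof_eq_of A _ _ _ _
        obtain ⟨s, rfl⟩ := htr
        exact ⟨s, ht⟩
  | p + 1, M, hM, n => by
      let hK := vanishesAbove_kerCov M hM
      have ih := sub_grSucc p (kerCov M b) hK (n + 1)
      let G := filt L hL b (p + 1 + 1) M hM n
      let G' := filt L hL b (p + 1) (kerCov M b) hK (n + 1)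
      let G₀' : Submodule A G' := (filt L hL b p (kerCov M b) hK (n + 1)).comap G'.subtype
      let G₀ : Submodule A G := (filt L hL b (p + 1) M hM n).comap G.subtype
      let r : G →ₗ[A] G' := (δ L M hM hL n).restrict (fun x (hx : x ∈ G) => hx)
      have hr : G₀ ≤ G₀'.comap r := fun x hx => hx
      let e := G₀.mapQ G₀' r hr
      have he : Function.Injective e := (injective_iff_map_eq_zero _).2 fun x hx => by
        obtain ⟨y, rfl⟩ := Submodule.Quotient.mk_surjective _ x
        exact (Submodule.Quotient.mk_eq_zero _).2 ((Submodule.Quotient.mk_eq_zero G₀').1 hx :)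
      have h1 := ih.of_injective e he
      have ex : ∀ ij : {ij : ℤ × ℤ // ij.1 + ij.2 - ((p + 1 + 1 : ℕ) : ℤ) = n},
          Nonempty (DRing.Tor A (p + 1 + 1) (L.homology ij.1.1) (M.homology ij.1.2) ≃ₗ[A]
            DRing.Tor A (p + 1) (L.homology ij.1.1) ((kerCov M b).homology ij.1.2)) := fun ij =>
        haveI := flat_homology_coverP (b := b) M ij.1.2
        ⟨torShiftRight (homologyMap (kerι M b) ij.1.2).hom (homologyMap (coverπ M b) ij.1.2).hom
          (homology_exact M hM ij.1.2).1 (homologyMap_coverπ_surjective M hM ij.1.2)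
          (homology_exact M hM ij.1.2).2 _ p⟩
      let Θ : HTor.TorSum L M n (p + 1 + 1) →ₗ[A] HTor.TorSum L (kerCov M b) (n + 1) (p + 1) :=
        DirectSum.toModule A _ _ fun ij =>
          DirectSum.lof A {ij : ℤ × ℤ // ij.1 + ij.2 - ((p + 1 : ℕ) : ℤ) = n + 1}
            (fun ij => DRing.Tor A (p + 1) (L.homology ij.1.1) ((kerCov M b).homology ij.1.2))
            ⟨ij.1, by have := ij.2; push_cast at this ⊢; omega⟩ ∘ₗ (ex ij).some.toLinearMap
      refine h1.of_surjective Θ fun t => ?_
      classical
      show t ∈ LinearMap.range Θ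
      rw [← DirectSum.sum_support_of t]
      refine Submodule.sum_mem _ fun k _ => ?_
      refine ⟨DirectSum.lof A {ij : ℤ × ℤ // ij.1 + ij.2 - ((p + 1 + 1 : ℕ) : ℤ) = n}
        (fun ij => DRing.Tor A (p + 1 + 1) (L.homology ij.1.1) (M.homology ij.1.2))
        ⟨k.1, by have := k.2; push_cast at this ⊢; omega⟩ ((ex _).some.symm (t k)), ?_⟩
      simp only [Θ, DirectSum.toModule_lof, LinearMap.comp_apply, LinearEquiv.coe_coe,
        LinearEquiv.apply_symm_apply]
      exact DirectSum.lof_eq_of A _ _ _ _

end Groth.Agent.HTorKunneth
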