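import Groth.Agent.HTorKunneth.Sphere
import Groth.Agent.HTorKunneth.Cover
import Groth.Agent.KFlat.Bifunctor
import Groth.Agent.KFlat.Module
import Groth.Agent.S3522

/-!
# The long exact sequence of a cover, tensored with a flat complex
-/

set_option autoImplicit false
set_option linter.style.haveILetI false
universe u
open CategoryTheory CategoryTheory.Limits MonoidalCategory HomologicalComplex
attribute [local instance] HasDerivedCategory.standard

noncomputable section

namespace Groth.Agent.HTorKunneth

variable {A : Type u} [CommRing A] (L M : DRing.Cx A) (b : ℤ)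

/-- The kernel of the cover. -/
def kerCov : DRing.Cx A := kernel (coverπ M b)

/-- Its inclusion. -/
def kerι : kerCov M b ⟶ coverP M b := kernel.ι (coverπ M b)

theorem kerι_coverπ : kerι M b ≫ coverπ M b = 0 := kernel.condition _

/-- `0 → K → P → M → 0`. -/
abbrev covS : ShortComplex (DRing.Cx A) := ShortComplex.mk (kerι M b) (coverπ M b) (kerι_coverπ M b)

variable {b} (hb : DRing.VanishesAbove M b)

include hb in
theorem covS_shortExact : (covS M b).ShortExact := by
  haveI : Epi (covS M b).g := by
    haveI : ∀ j, Epi ((coverπ M b).f j) := fun j =>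
      (ModuleCat.epi_iff_surjective _).2 (coverπ_surjective M hb j)
    exact HomologicalComplex.epi_of_epi_f _ inferInstance
  haveI : Mono (covS M b).f := inferInstanceAs (Mono (kernel.ι (coverπ M b)))
  exact { exact := ShortComplex.exact_of_f_is_kernel _ (kernelIsKernel (coverπ M b)) }

include hb in
theorem vanishesAbove_kerCov : DRing.VanishesAbove (kerCov M b) b := fun j hj => by
  haveI : Mono (kerι M b) := inferInstanceAs (Mono (kernel.ι (coverπ M b)))
  exact IsZero.of_mono ((kerι M b).f j) (vanishesAbove_coverP M j hj)

variable (hL : DRing.TermwiseFlat L)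

include hL in
theorem shortExact_tensor {S : ShortComplex (DRing.Cx A)} (hS : S.ShortExact) :
    (S.map (KFlat.tot (curriedTensor (ModuleCat.{u} A)) L)).ShortExact := by
  refine KFlat.shortExact_tot (curriedTensor (ModuleCat.{u} A)) L S fun p q => ?_
  haveI := hL p
  have hq := hS.map_of_exact (HomologicalComplex.eval (ModuleCat.{u} A) (ComplexShape.up ℤ) q)
  have hi := (ModuleCat.mono_iff_injective _).1 hq.mono_f
  have hs := (ModuleCat.epi_iff_surjective _).1 hq.epi_g
  have he := (ShortComplex.ShortExact.moduleCat_exact_iff_function_exact _).1 hq.exact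
  exact
    { exact := (ShortComplex.ShortExact.moduleCat_exact_iff_function_exact _).2 (lTensor_exact _ he hs)
      mono_f := (ModuleCat.mono_iff_injective _).2
        (Module.Flat.lTensor_preserves_injective_linearMap _ hi)
      epi_g := (ModuleCat.epi_iff_surjective _).2 (LinearMap.lTensor_surjective _ hs) }

include hb hL in
theorem tensS_shortExact :
    ((covS M b).map (KFlat.tot (curriedTensor (ModuleCat.{u} A)) L)).ShortExact :=
  shortExact_tensor L hL (covS_shortExact M hb)

/-- The connecting map of the tensored sequence. -/
def δ (n : ℤ) : (HTor.tensorCx L M).homology n →ₗ[A] (HTor.tensorCx L (kerCov M b)).homology (n + 1) :=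
  ((tensS_shortExact L M hb hL).δ n (n + 1) rfl).hom

theorem exact_P_M (n : ℤ) :
    Function.Exact (homologyMap (TM L (coverπ M b)) n) (δ L M hb hL n) :=
  (ShortComplex.ShortExact.moduleCat_exact_iff_function_exact _).1
    ((tensS_shortExact L M hb hL).homology_exact₃ n (n + 1) rfl)

theorem exact_M_K (n : ℤ) :
    Function.Exact (δ L M hb hL n) (homologyMap (TM L (kerι M b)) (n + 1)) :=
  (ShortComplex.ShortExact.moduleCat_exact_iff_function_exact _).1
    ((tensS_shortExact L M hb hL).homology_exact₁ n (n + 1) rfl)

include hb hL in
theorem exact_K_P (n : ℤ) :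
    Function.Exact (homologyMap (TM L (kerι M b)) n) (homologyMap (TM L (coverπ M b)) n) :=
  (ShortComplex.ShortExact.moduleCat_exact_iff_function_exact _).1
    ((tensS_shortExact L M hb hL).homology_exact₂ n)

include hb in
theorem homology_exact (j : ℤ) :
    Function.Injective (homologyMap (kerι M b) j) ∧
      Function.Exact (homologyMap (kerι M b) j) (homologyMap (coverπ M b) j) := by
  refine ⟨(injective_iff_map_eq_zero _).2 fun x hx => ?_,
    (ShortComplex.ShortExact.moduleCat_exact_iff_function_exact _).1
      ((covS_shortExact M hb).homology_exact₂ j)⟩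
  have h₁ := (ShortComplex.ShortExact.moduleCat_exact_iff_function_exact _).1
    ((covS_shortExact M hb).homology_exact₁ (j - 1) j (by simp))
  have h₃ := (ShortComplex.ShortExact.moduleCat_exact_iff_function_exact _).1
    ((covS_shortExact M hb).homology_exact₃ (j - 1) j (by simp))
  obtain ⟨y, rfl⟩ := (h₁ x).1 hx
  exact (h₃ y).2 (homologyMap_coverπ_surjective M hb (j - 1) y)

theorem bijective_homologyMap_coverS (j : ℤ) :
    Function.Bijective (homologyMap (coverS M b) j) := by
  haveI := quasiIso_coverS (b := b) M
  exact (ConcreteCategory.isIso_iff_bijective _).1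
    ((quasiIsoAt_iff_isIso_homologyMap _ _).1 inferInstance)

theorem flat_homology_coverP (j : ℤ) : Module.Flat A ((coverP M b).homology j) := by
  let e : (coverE M b).X j ≃ₗ[A] (coverE M b).homology j :=
    (LinearEquiv.ofBijective ((coverE M b).iCycles j).hom (iC_bijective _ (coverE_d M b) j)).symm.trans
      (LinearEquiv.ofBijective ((coverE M b).homologyπ j).hom
        ⟨(injective_iff_map_eq_zero _).2 fun z hz => by
          obtain ⟨y, hy⟩ := (π_eq_zero_iff _ (j - 1) j (by omega) z).1 hz
          exact iC_injective _ j ((hy.symm.trans rfl).trans (map_zero _).symm),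
          π_surjective _ j⟩)
  haveI := coverE_flat M b j
  exact Module.Flat.of_linearEquiv (e.trans
    (LinearEquiv.ofBijective (homologyMap (coverS M b) j).hom (bijective_homologyMap_coverS M j))).symm

variable (bL : ∃ c, DRing.VanishesAbove L c)

include hL bL in
theorem kun_coverP_bijective (n : ℤ) : Function.Bijective (kun L (coverP M b) n) := by
  obtain ⟨c, hc⟩ := bL
  haveI := quasiIso_coverS (b := b) M
  haveI : QuasiIso (TM L (coverS M b)) := S3522.Helper.key L c hc hL (coverS M b)
  have h1 : Function.Bijective (homologyMap (TM L (coverS M b)) n) :=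
    (ConcreteCategory.isIso_iff_bijective _).1
      ((quasiIsoAt_iff_isIso_homologyMap _ _).1 inferInstance)
  have h2 : Function.Bijective (sumMap L (coverS M b) n) :=
    ⟨(DirectSum.lmap_injective _).2 fun ij => (LinearEquiv.lTensor _
        (LinearEquiv.ofBijective _ (bijective_homologyMap_coverS M ij.1.2))).injective,
      (DirectSum.lmap_surjective _).2 fun ij => (LinearEquiv.lTensor _
        (LinearEquiv.ofBijective _ (bijective_homologyMap_coverS M ij.1.2))).surjective⟩
  have h3 : Function.Bijective (kun L (coverP M b) n ∘ sumMap L (coverS M b) n) := by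
    have e : (kun L (coverP M b) n ∘ sumMap L (coverS M b) n) =
        (homologyMap (TM L (coverS M b)) n ∘ kun L (coverE M b) n) :=
      funext fun t => (kun_nat L (coverS M b) n t).symm
    rw [e]
    exact h1.comp (kun_bijective_of_d_eq_zero L (coverE M b) (coverE_d M b) (coverE_flat M b) n)
  exact (Function.Bijective.of_comp_iff _ h2).1 h3

end Groth.Agent.HTorKunneth
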