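import Groth.Agent.HTorKunneth.Map

/-!
# The Künneth map for a flat complex with zero differential is bijective
-/

set_option autoImplicit false
set_option linter.style.haveILetI false
universe u
open CategoryTheory CategoryTheory.Limits MonoidalCategory HomologicalComplex
attribute [local instance] HasDerivedCategory.standard

noncomputable section

namespace Groth.Agent.HTorKunneth

variable {A : Type u} [CommRing A] (L E : DRing.Cx A)

/-- The terms `⊕ L^i ⊗ E^j` of degree `n`. -/
abbrev Terms (n : ℤ) : Type u :=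
  DirectSum (HTor.Antidiag n) fun ij => TensorProduct A (L.X ij.1.1) (E.X ij.1.2)

/-- Components of a total element. -/
def proj (n : ℤ) : (HTor.tensorCx L E).X n →ₗ[A] Terms L E n :=
  (mapBifunctorDesc (K₁ := L) (K₂ := E) (F := curriedTensor (ModuleCat.{u} A))
    (c := ComplexShape.up ℤ) (j := n) (A := ModuleCat.of A (Terms L E n))
    fun p q h => ModuleCat.ofHom (DirectSum.lof A (HTor.Antidiag n)
      (fun ij => TensorProduct A (L.X ij.1.1) (E.X ij.1.2)) ⟨(p, q), h⟩)).hom

theorem proj_inc (i j n : ℤ) (h : i + j = n) (x : TensorProduct A (L.X i) (E.X j)) :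
    proj L E n (inc L E i j n h x) = DirectSum.lof A (HTor.Antidiag n)
      (fun ij => TensorProduct A (L.X ij.1.1) (E.X ij.1.2)) ⟨(i, j), h⟩ x := by
  have e := HomologicalComplex.ι_mapBifunctorDesc (K₁ := L) (K₂ := E)
    (F := curriedTensor (ModuleCat.{u} A)) (c := ComplexShape.up ℤ) (j := n)
    (A := ModuleCat.of A (Terms L E n))
    (fun p q h => ModuleCat.ofHom (DirectSum.lof A (HTor.Antidiag n)
      (fun ij => TensorProduct A (L.X ij.1.1) (E.X ij.1.2)) ⟨(p, q), h⟩)) i j h
  exact ConcreteCategory.congr_hom e x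

/-- The sum of the inclusions. -/
def incT (n : ℤ) : Terms L E n →ₗ[A] (HTor.tensorCx L E).X n :=
  DirectSum.toModule A _ _ fun ij => inc L E ij.1.1 ij.1.2 n ij.2

theorem proj_incT (n : ℤ) (x : Terms L E n) : proj L E n (incT L E n x) = x := by
  have : proj L E n ∘ₗ incT L E n = LinearMap.id := by
    refine DirectSum.linearMap_ext A fun ij => LinearMap.ext fun y => ?_
    show proj L E n (incT L E n (DirectSum.lof A (HTor.Antidiag n) _ ij y)) =
      DirectSum.lof A (HTor.Antidiag n) _ ij y
    rw [incT, DirectSum.toModule_lof, proj_inc]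
  exact LinearMap.congr_fun this x

theorem tot_ext {n : ℤ} {P : Type u} [AddCommGroup P] [Module A P]
    {f g : (HTor.tensorCx L E).X n →ₗ[A] P}
    (h : ∀ (i j : ℤ) (h : i + j = n) (a : L.X i) (b : E.X j),
      f (inc L E i j n h (a ⊗ₜ b)) = g (inc L E i j n h (a ⊗ₜ b))) : f = g := by
  have e : ModuleCat.ofHom f = ModuleCat.ofHom g :=
    mapBifunctor.hom_ext fun p q hpq => ModuleCat.hom_ext (TensorProduct.ext' fun a b => h p q hpq a b)
  exact congrArg ModuleCat.Hom.hom e

theorem incT_proj (n : ℤ) (x : (HTor.tensorCx L E).X n) : incT L E n (proj L E n x) = x := by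
  have : incT L E n ∘ₗ proj L E n = LinearMap.id := tot_ext L E fun i j h a b => by
    rw [LinearMap.comp_apply, proj_inc, incT, DirectSum.toModule_lof, LinearMap.id_apply]
  exact LinearMap.congr_fun this x

variable (hd : ∀ i j : ℤ, E.d i j = 0)

include hd in
theorem d_apply (i j : ℤ) (x : E.X i) : E.d i j x = 0 := by
  rw [hd]; rfl

include hd in
theorem iC_bijective (j : ℤ) : Function.Bijective (E.iCycles j) :=
  ⟨iC_injective E j, fun x => exists_cycle E j (j + 1) rfl x (d_apply E hd j (j + 1) x)⟩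

include hd in
theorem proj_d (n n' : ℤ) (hn : n + 1 = n') (i i' j : ℤ) (hi : i + 1 = i') (h : i + j = n)
    (x : (HTor.tensorCx L E).X n) :
    proj L E n' ((HTor.tensorCx L E).d n n' x) ⟨(i', j), show i' + j = n' by omega⟩ =
      s₁ i j • (L.d i i').hom.rTensor (E.X j) (proj L E n x ⟨(i, j), h⟩) := by
  let k' : HTor.Antidiag n' := ⟨(i', j), show i' + j = n' by omega⟩
  let k : HTor.Antidiag n := ⟨(i, j), h⟩
  let c' : Terms L E n' →ₗ[A] TensorProduct A (L.X i') (E.X j) :=
    DirectSum.component A (HTor.Antidiag n') (fun ij => TensorProduct A (L.X ij.1.1) (E.X ij.1.2)) k'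
  let c : Terms L E n →ₗ[A] TensorProduct A (L.X i) (E.X j) :=
    DirectSum.component A (HTor.Antidiag n) (fun ij => TensorProduct A (L.X ij.1.1) (E.X ij.1.2)) k
  have key : c' ∘ₗ proj L E n' ∘ₗ ((HTor.tensorCx L E).d n n').hom =
      s₁ i j • ((L.d i i').hom.rTensor (E.X j) ∘ₗ c ∘ₗ proj L E n) := tot_ext L E fun p q hpq a b => by
    show c' (proj L E n' ((HTor.tensorCx L E).d n n' (inc L E p q n hpq (a ⊗ₜ b)))) =
      s₁ i j • (L.d i i').hom.rTensor (E.X j) (c (proj L E n (inc L E p q n hpq (a ⊗ₜ b))))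
    rw [d_inc L E p (p + 1) q (q + 1) n n' rfl rfl hpq hn, d_apply E hd q (q + 1) b,
      TensorProduct.tmul_zero, map_zero, smul_zero, add_zero, map_zsmul, map_zsmul, proj_inc, proj_inc]
    by_cases hp : p = i ∧ q = j
    · obtain ⟨rfl, rfl⟩ := hp
      subst hi
      dsimp only [c, c', k, k']
      rw [DirectSum.component.lof_self, DirectSum.component.lof_self, LinearMap.rTensor_tmul]
    · dsimp only [c, c']
      rw [DirectSum.component.of, DirectSum.component.of, dif_neg, dif_neg, map_zero, smul_zero,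
        smul_zero]
      · intro e
        exact hp ⟨congrArg (fun z => z.1.1) e, congrArg (fun z => z.1.2) e⟩
      · intro e
        have e₁ : p + 1 = i' := congrArg (fun z => z.1.1) e
        have e₂ : q = j := congrArg (fun z => z.1.2) e
        exact hp ⟨by omega, e₂⟩
  exact LinearMap.congr_fun key x

/-- `Z^i(L) ⊗ Z^j(E) → L^i ⊗ E^j`. -/
def ν (n : ℤ) (ij : HTor.Antidiag n) :
    TensorProduct A (L.cycles ij.1.1) (E.cycles ij.1.2) →ₗ[A]
      TensorProduct A (L.X ij.1.1) (E.X ij.1.2) :=
  TensorProduct.map (L.iCycles ij.1.1).hom (E.iCycles ij.1.2).hom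

theorem ν_eq (n : ℤ) (ij : HTor.Antidiag n) : ν L E n ij =
    (L.iCycles ij.1.1).hom.rTensor (E.X ij.1.2) ∘ₗ
      (E.iCycles ij.1.2).hom.lTensor (L.cycles ij.1.1) :=
  (LinearMap.rTensor_comp_lTensor ..).symm

/-- Sum of the cycles `z ⊗ z'`. -/
def Γ (n : ℤ) : (DirectSum (HTor.Antidiag n) fun ij =>
    TensorProduct A (L.cycles ij.1.1) (E.cycles ij.1.2)) →ₗ[A] (HTor.tensorCx L E).cycles n :=
  DirectSum.toModule A _ _ fun ij => TensorProduct.lift (pairCyc L E ij.1.1 ij.1.2 n ij.2)

theorem iC_Γ (n : ℤ) (t) :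
    (HTor.tensorCx L E).iCycles n (Γ L E n t) = incT L E n (DirectSum.lmap (ν L E n) t) := by
  have : ((HTor.tensorCx L E).iCycles n).hom ∘ₗ Γ L E n =
      incT L E n ∘ₗ DirectSum.lmap (ν L E n) := by
    refine DirectSum.linearMap_ext A fun ij => TensorProduct.ext' fun a b => ?_
    show (HTor.tensorCx L E).iCycles n (Γ L E n (DirectSum.lof A (HTor.Antidiag n) _ ij (a ⊗ₜ b))) =
      incT L E n (DirectSum.lmap (ν L E n) (DirectSum.lof A (HTor.Antidiag n) _ ij (a ⊗ₜ b)))
    rw [Γ, DirectSum.toModule_lof, DirectSum.lmap_lof, incT, DirectSum.toModule_lof,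
      TensorProduct.lift.tmul, iC_pairCyc]
    rfl
  exact LinearMap.congr_fun this t

/-- Sum of `π ⊗ π`. -/
def clsT (n : ℤ) : (DirectSum (HTor.Antidiag n) fun ij =>
    TensorProduct A (L.cycles ij.1.1) (E.cycles ij.1.2)) →ₗ[A] HTor.KunnethSum L E n :=
  DirectSum.lmap fun ij =>
    TensorProduct.map (L.homologyπ ij.1.1).hom (E.homologyπ ij.1.2).hom

theorem kun_clsT (n : ℤ) (t) :
    kun L E n (clsT L E n t) = (HTor.tensorCx L E).homologyπ n (Γ L E n t) := by
  have : kun L E n ∘ₗ clsT L E n = ((HTor.tensorCx L E).homologyπ n).hom ∘ₗ Γ L E n := by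
    refine DirectSum.linearMap_ext A fun ij => TensorProduct.ext' fun a b => ?_
    show kun L E n (clsT L E n (DirectSum.lof A (HTor.Antidiag n) _ ij (a ⊗ₜ b))) =
      (HTor.tensorCx L E).homologyπ n (Γ L E n (DirectSum.lof A (HTor.Antidiag n) _ ij (a ⊗ₜ b)))
    rw [clsT, DirectSum.lmap_lof, TensorProduct.map_tmul, kun_lof, Γ, DirectSum.toModule_lof,
      TensorProduct.lift.tmul, homPair_π]
  exact LinearMap.congr_fun this t

theorem clsT_surjective (n : ℤ) : Function.Surjective (clsT L E n) :=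
  (DirectSum.lmap_surjective _).2 fun _ =>
    TensorProduct.map_surjective (π_surjective L _) (π_surjective E _)

variable (hflat : DRing.TermwiseFlat E)

include hd hflat in
/-- The Künneth map of a flat complex with zero differential is bijective. -/
theorem kun_bijective_of_d_eq_zero (n : ℤ) : Function.Bijective (kun L E n) := by
  refine ⟨(injective_iff_map_eq_zero _).2 fun t ht => ?_, fun η => ?_⟩
  · obtain ⟨t, rfl⟩ := clsT_surjective L E n t
    rw [kun_clsT] at ht
    obtain ⟨y, hy⟩ := (π_eq_zero_iff _ (n - 1) n (by omega) _).1 ht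
    rw [iC_Γ] at hy
    have hy' := congrArg (proj L E n) hy
    rw [proj_incT] at hy'
    refine DFinsupp.ext fun ij => ?_
    obtain ⟨⟨i, j⟩, h⟩ := ij
    have h1 : proj L E n ((HTor.tensorCx L E).d (n - 1) n y) ⟨(i, j), h⟩ =
        ν L E n ⟨(i, j), h⟩ (t ⟨(i, j), h⟩) := by rw [hy', DirectSum.lmap_apply]
    rw [proj_d L E hd (n - 1) n (by omega) (i - 1) i j (by omega)
      (show i - 1 + j = n - 1 by change i + j = n at h; omega) y] at h1
    have hs : Function.Surjective ((E.iCycles j).hom.lTensor (L.X (i - 1))) :=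
      LinearMap.lTensor_surjective _ (iC_bijective E hd j).2
    obtain ⟨c, hc⟩ := hs (proj L E (n - 1) y ⟨(i - 1, j), by change i + j = n at h; show _ + _ = _; omega⟩)
    rw [← hc] at h1
    have hfac : (L.d (i - 1) i).hom.rTensor (E.X j) ((E.iCycles j).hom.lTensor (L.X (i - 1)) c) =
        TensorProduct.map (L.iCycles i).hom (E.iCycles j).hom
          ((L.toCycles (i - 1) i).hom.rTensor (E.cycles j) c) := by
      have : (L.d (i - 1) i).hom.rTensor (E.X j) ∘ₗ (E.iCycles j).hom.lTensor (L.X (i - 1)) =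
          TensorProduct.map (L.iCycles i).hom (E.iCycles j).hom ∘ₗ
            (L.toCycles (i - 1) i).hom.rTensor (E.cycles j) :=
        TensorProduct.ext' fun a b =>
          congrArg (· ⊗ₜ[A] E.iCycles j b) (iC_toCycles L (i - 1) i a).symm
      exact LinearMap.congr_fun this c
    rw [hfac] at h1
    haveI := hflat j
    have inj : Function.Injective (ν L E n ⟨(i, j), h⟩) := by
      rw [ν_eq]
      exact (Module.Flat.rTensor_preserves_injective_linearMap _ (iC_injective L i)).comp
        (LinearEquiv.lTensor _ (LinearEquiv.ofBijective _ (iC_bijective E hd j))).injective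
    have h2 : t ⟨(i, j), h⟩ = s₁ (i - 1) j • (L.toCycles (i - 1) i).hom.rTensor (E.cycles j) c :=
      inj (by rw [map_zsmul]; exact h1.symm)
    show TensorProduct.map (L.homologyπ i).hom (E.homologyπ j).hom (t ⟨(i, j), h⟩) = 0
    rw [h2, map_zsmul]
    have : TensorProduct.map (L.homologyπ i).hom (E.homologyπ j).hom ∘ₗ
        (L.toCycles (i - 1) i).hom.rTensor (E.cycles j) = 0 :=
      TensorProduct.ext' fun a b => by
        show L.homologyπ i (L.toCycles (i - 1) i a) ⊗ₜ[A] E.homologyπ j b = 0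
        rw [π_toCycles, TensorProduct.zero_tmul]
    rw [show TensorProduct.map (L.homologyπ i).hom (E.homologyπ j).hom
      ((L.toCycles (i - 1) i).hom.rTensor (E.cycles j) c) = 0 from LinearMap.congr_fun this c,
      smul_zero]
  · obtain ⟨z, rfl⟩ := π_surjective _ n η
    have hmem : proj L E n ((HTor.tensorCx L E).iCycles n z) ∈
        LinearMap.range (DirectSum.lmap (ν L E n)) := by
      rw [DirectSum.range_lmap]
      rintro ⟨⟨i, j⟩, h⟩ -
      have h0 := proj_d L E hd n (n + 1) rfl i (i + 1) j rfl h ((HTor.tensorCx L E).iCycles n z)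
      rw [d_iC, map_zero] at h0
      have h0' : (L.d i (i + 1)).hom.rTensor (E.X j)
          (proj L E n ((HTor.tensorCx L E).iCycles n z) ⟨(i, j), h⟩) = 0 := by
        have := congrArg (s₁ i j • ·) h0
        simpa only [smul_smul, s₁_mul_self, one_smul, DirectSum.zero_apply, smul_zero] using this.symm
      haveI := hflat j
      obtain ⟨a, ha⟩ := (Module.Flat.rTensor_exact (E.X j) (exact_iC L i (i + 1) rfl) _).1 h0'
      obtain ⟨b, rfl⟩ := LinearMap.lTensor_surjective (L.cycles i) (iC_bijective E hd j).2 a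
      refine ⟨b, ?_⟩
      rw [ν_eq]
      exact ha
    obtain ⟨t, ht⟩ := hmem
    refine ⟨clsT L E n t, ?_⟩
    rw [kun_clsT]
    congr 1
    apply iC_injective
    rw [iC_Γ, ht, incT_proj]

end Groth.Agent.HTorKunneth
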